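import Groth.Agent.SmoothReg.OmegaGen

/-! Smooth points and geometrically reduced generic points. -/

universe u

noncomputable section

namespace Groth.Agent.SmoothReg

variable (k A : Type u) [Field k] [CommRing A] [Algebra k A] [Algebra.FiniteType k A]

theorem isSmoothAt_of_geomRed (P : Ideal A) [P.IsPrime] (hP : P ∈ minimalPrimes A)
    [Algebra.IsGeometricallyReduced k (Localization.AtPrime P)] : Algebra.IsSmoothAt k P := by
  haveI : IsNoetherianRing A := Algebra.FiniteType.isNoetherianRing k A
  haveI : Algebra.FinitePresentation k A := Algebra.FinitePresentation.of_finiteType.mp inferInstance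
  let L := Localization.AtPrime P
  haveI : _root_.IsReduced L := Algebra.isReduced_of_isGeometricallyReduced k
  haveI : Ring.KrullDimLE 0 L := Ring.KrullDimLE.of_isLocalization P hP L
  letI : Field L := (Ring.KrullDimLE.isField_of_isReduced (R := L)).toField
  exact Groth.Agent.EGA41Lib.FieldFS.formallySmooth_of_isGeometricallyReduced k L

theorem geomRed_of_isSmoothAt (P : Ideal A) [P.IsPrime] (h : Algebra.IsSmoothAt k P) :
    Algebra.IsGeometricallyReduced k (Localization.AtPrime P) := by
  haveI : IsNoetherianRing A := Algebra.FiniteType.isNoetherianRing k A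
  haveI : Algebra.FinitePresentation k A := Algebra.FinitePresentation.of_finiteType.mp inferInstance
  have hmem : (⟨P, inferInstance⟩ : PrimeSpectrum A) ∈ Algebra.smoothLocus k A := h
  obtain ⟨_, ⟨g, rfl⟩, hPg, hg⟩ := PrimeSpectrum.isTopologicalBasis_basic_opens.exists_subset_of_mem_open
    hmem Algebra.isOpen_smoothLocus
  haveI : Algebra.Smooth k (Localization.Away g) := Algebra.basicOpen_subset_smoothLocus_iff_smooth.1 hg
  haveI := FlatMisc.SpreadRed.smooth_isGeometricallyReduced k (Localization.Away g)
  have hle : Submonoid.powers g ≤ P.primeCompl := Submonoid.powers_le.2 hPg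
  letI := IsLocalization.localizationAlgebraOfSubmonoidLe (Localization.Away g) (Localization.AtPrime P)
    (Submonoid.powers g) P.primeCompl hle
  haveI := IsLocalization.localization_isScalarTower_of_submonoid_le (Localization.Away g) (Localization.AtPrime P)
    (Submonoid.powers g) P.primeCompl hle
  haveI := IsLocalization.isLocalization_of_submonoid_le (Localization.Away g) (Localization.AtPrime P)
    (Submonoid.powers g) P.primeCompl hle
  haveI : IsScalarTower k (Localization.Away g) (Localization.AtPrime P) := IsScalarTower.of_algebraMap_eq fun x => by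
    rw [IsScalarTower.algebraMap_apply k A (Localization.AtPrime P),
      IsScalarTower.algebraMap_apply A (Localization.Away g) (Localization.AtPrime P),
      ← IsScalarTower.algebraMap_apply k A (Localization.Away g)]
  exact Groth.Agent.GeomField.gr_localization (Localization.Away g) (Localization.AtPrime P)
    (P.primeCompl.map (algebraMap A (Localization.Away g)))

theorem mem_of_dense_open [IsNoetherianRing A] (P : Ideal A) [P.IsPrime] (hP : P ∈ minimalPrimes A)
    {U : Set (PrimeSpectrum A)} (hU : IsOpen U) (hd : Dense U) : (⟨P, inferInstance⟩ : PrimeSpectrum A) ∈ U := by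
  let V : Set (PrimeSpectrum A) := ⋂ Q ∈ minimalPrimes A \ {P}, (PrimeSpectrum.zeroLocus (Q : Set A))ᶜ
  have hV : IsOpen V := ((minimalPrimes.finite_of_isNoetherianRing A).subset Set.diff_subset).isOpen_biInter
    fun Q _ => (PrimeSpectrum.isClosed_zeroLocus _).isOpen_compl
  have hPV : (⟨P, inferInstance⟩ : PrimeSpectrum A) ∈ V := by
    refine Set.mem_iInter₂.2 fun Q hQ hle => hQ.2 ?_
    exact le_antisymm hle (hP.2 hQ.1.1 hle)
  obtain ⟨x, hxV, hxU⟩ := hd.inter_open_nonempty V hV ⟨_, hPV⟩
  obtain ⟨Q, hQ, hQx⟩ := Ideal.exists_minimalPrimes_le (bot_le : ⊥ ≤ x.asIdeal)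
  obtain rfl : Q = P := by
    by_contra hne
    exact Set.mem_iInter₂.1 hxV Q ⟨hQ, hne⟩ hQx
  exact ((PrimeSpectrum.le_iff_specializes ⟨Q, inferInstance⟩ x).1 hQx).mem_open hU hxU

end Groth.Agent.SmoothReg

end
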