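import Groth.Agent.SmoothReg.Omega
import Groth.Agent.FlatMisc.SpreadSmooth

/-! Smoothness from projective differentials and smooth generic points. -/

universe u

set_option linter.style.haveILetI false
set_option linter.unusedSectionVars false

noncomputable section

open TensorProduct IsLocalRing Order

namespace Groth.Agent.SmoothReg

variable {k : Type u} [Field k] {A : Type u} [CommRing A] [Algebra k A] [Algebra.FiniteType k A]

theorem isRegularLocalRing_of_generic [PerfectField k]
    (hgen : ∀ (η : Ideal A) [η.IsPrime], η ∈ minimalPrimes A → Algebra.IsSmoothAt k η)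
    [Module.Projective A Ω[A⁄k]] (m : PrimeSpectrum A) [m.asIdeal.IsMaximal] :
    IsRegularLocalRing (Localization.AtPrime m.asIdeal) := by
  haveI : IsNoetherianRing A := Algebra.FiniteType.isNoetherianRing k A
  haveI : Algebra.FinitePresentation k A := Algebra.FinitePresentation.of_finiteType.1 inferInstance
  haveI : IsJacobsonRing A := isJacobsonRing_of_finiteType (A := k) (B := A)
  obtain ⟨η, hη, hηm⟩ := Ideal.exists_minimalPrimes_le (bot_le : ⊥ ≤ m.asIdeal)
  haveI := hη.1.1
  let ep : PrimeSpectrum A := ⟨η, hη.1.1⟩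
  have hsm : ep ∈ Algebra.smoothLocus k A := by
    exact hgen η hη
  obtain ⟨c, ⟨hc1, hc2⟩, hcc⟩ := nonempty_inter_closedPoints
    (Z := Algebra.smoothLocus k A ∩ PrimeSpectrum.zeroLocus (η : Set A)) ⟨ep, hsm, le_refl η⟩
    (Algebra.isOpen_smoothLocus.isLocallyClosed.inter
      (PrimeSpectrum.isClosed_zeroLocus _).isLocallyClosed)
  haveI : c.asIdeal.IsMaximal := (PrimeSpectrum.isClosed_singleton_iff_isMaximal c).1 hcc
  haveI : Algebra.IsSmoothAt k c.asIdeal := hc1
  have hreg := CotTLib.isRegularLocalRing_of_isSmoothAt (k := k) c.asIdeal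
  haveI := RegLoc6.isDomain_of_isRegularLocalRing (Localization.AtPrime c.asIdeal)
  have hηc : η ≤ c.asIdeal := hc2
  -- the unique minimal prime below `c`
  have huniq : ∀ q : PrimeSpectrum A, q ≤ c → η ≤ q.asIdeal := by
    intro q hq x hx
    have hmap : η.map (algebraMap A (Localization.AtPrime c.asIdeal)) = ⊥ := by
      have hdisj : Disjoint (c.asIdeal.primeCompl : Set A) (η : Set A) :=
        Set.disjoint_left.2 fun y hy hy' => hy (hηc hy')
      obtain ⟨q', hq', hq'e⟩ := Ideal.exists_minimalPrimes_le (bot_le : (⊥ : Ideal A) ≤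
        (⊥ : Ideal (Localization.AtPrime c.asIdeal)).comap (algebraMap A (Localization.AtPrime c.asIdeal)))
      have hle : (⊥ : Ideal (Localization.AtPrime c.asIdeal)).comap
          (algebraMap A (Localization.AtPrime c.asIdeal)) ≤ η := by
        intro y hy
        rw [Ideal.mem_comap, Ideal.mem_bot, IsLocalization.map_eq_zero_iff c.asIdeal.primeCompl] at hy
        obtain ⟨s, hs⟩ := hy
        exact ((hη.1.1).mem_or_mem (hs ▸ η.zero_mem : (s : A) * y ∈ η)).resolve_left
          fun h => s.2 (hηc h)
      have h2 : η ≤ q' := hη.2 ⟨hq'.1.1, bot_le⟩ (hq'e.trans hle)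
      rw [eq_bot_iff, Ideal.map_le_iff_le_comap]
      exact h2.trans hq'e
    have := Ideal.mem_map_of_mem (algebraMap A (Localization.AtPrime c.asIdeal)) hx
    rw [hmap, Ideal.mem_bot, IsLocalization.map_eq_zero_iff c.asIdeal.primeCompl] at this
    obtain ⟨s, hs⟩ := this
    exact (q.2.mem_or_mem (hs ▸ q.asIdeal.zero_mem : (s : A) * x ∈ q.asIdeal)).resolve_left
      fun h => s.2 (hq h)
  -- the dimension of the component
  obtain ⟨n, g, hinj, hint⟩ := exists_integral_inj_algHom_of_fg k (A ⧸ η)
  obtain ⟨N, hN⟩ : ∃ N : ℕ, ringKrullDim (A ⧸ η) = N := by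
    letI : Algebra (MvPolynomial (Fin n) k) (A ⧸ η) := g.toRingHom.toAlgebra
    haveI : FaithfulSMul (MvPolynomial (Fin n) k) (A ⧸ η) :=
      (faithfulSMul_iff_algebraMap_injective _ _).2 hinj
    haveI : Algebra.IsIntegral (MvPolynomial (Fin n) k) (A ⧸ η) := ⟨hint⟩
    exact ⟨n, by
      rw [VarDim.ringKrullDim_eq_of_isIntegral (R := MvPolynomial (Fin n) k) (S := A ⧸ η),
        MvPolynomial.ringKrullDim_of_isNoetherianRing, ringKrullDim_eq_zero_of_field, zero_add,
        Nat.card_fin]⟩
  let π := Ideal.Quotient.mk η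
  have hπ : StrictMono (PrimeSpectrum.comap π) := fun a b hab => by
    refine lt_of_le_of_ne (Ideal.comap_mono hab.le) fun h => hab.ne ?_
    exact PrimeSpectrum.comap_injective_of_surjective π Ideal.Quotient.mk_surjective h
  have hlift : ∀ q : PrimeSpectrum A, η ≤ q.asIdeal →
      ∃ q' : PrimeSpectrum (A ⧸ η), PrimeSpectrum.comap π q' = q := fun q hq => by
    have : q ∈ Set.range (PrimeSpectrum.comap π) := by
      rw [range_comap_of_surjective _ _ Ideal.Quotient.mk_surjective, Ideal.mk_ker]
      exact hq
    exact this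
  have hclosed : ∀ q : PrimeSpectrum A, q.asIdeal.IsMaximal → η ≤ q.asIdeal →
      (N : ℕ∞) ≤ height q ∧ ((∀ r : PrimeSpectrum A, r ≤ q → η ≤ r.asIdeal) → height q = N) := by
    intro q hqmax hq
    obtain ⟨q', rfl⟩ := hlift q hq
    have hco : coheight q' = 0 := by
      rw [coheight_eq_zero]
      intro b hb
      have := hqmax.eq_of_le (PrimeSpectrum.comap π b).2.ne_top (hπ.monotone hb)
      exact (PrimeSpectrum.comap_injective_of_surjective π Ideal.Quotient.mk_surjective
        (PrimeSpectrum.ext this)).ge
    have hh : height q' = N := by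
      have := VarDim.height_add_coheight_eq (k := k) N (A ⧸ η) hN q'
      rwa [hco, add_zero] at this
    refine ⟨hh ▸ height_le_height_apply_of_strictMono _ hπ q', fun hbelow => ?_⟩
    refine le_antisymm ?_ (hh ▸ height_le_height_apply_of_strictMono _ hπ q')
    rw [← hh]
    refine height_le fun l hl => ?_
    have hl' : ∀ i, l i ≤ PrimeSpectrum.comap π q' := fun i =>
      hl ▸ (LTSeries.monotone l (Fin.le_last i))
    choose f hf using fun i => hlift (l i) (hbelow _ (hl' i))
    have hmono : StrictMono f := fun i j hij => by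
      have h := l.strictMono hij
      rw [← hf i, ← hf j] at h
      refine lt_of_le_of_ne (fun x hx => ?_) fun he => h.ne (he ▸ rfl)
      obtain ⟨x, rfl⟩ := Ideal.Quotient.mk_surjective x
      exact h.le hx
    refine (length_le_height (p := LTSeries.mk l.length f hmono) ?_)
    refine le_of_eq (PrimeSpectrum.comap_injective_of_surjective π Ideal.Quotient.mk_surjective ?_)
    exact (hf _).trans hl
  have hrank : Module.rankAtStalk Ω[A⁄k] m = Module.rankAtStalk Ω[A⁄k] c := by
    have hc' : IsLocallyConstant (Module.rankAtStalk (R := A) Ω[A⁄k]) :=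
      Module.isLocallyConstant_rankAtStalk
    have h1 : ep ⤳ m := (PrimeSpectrum.le_iff_specializes ep m).1 hηm
    have h2 : ep ⤳ c := (PrimeSpectrum.le_iff_specializes ep c).1 hηc
    exact ((h1.map hc'.continuous).eq.symm).trans (h2.map hc'.continuous).eq
  rw [IsRegularLocalRing.iff_finrank_cotangentSpace, finrank_cotangentSpace_maximal (k := k),
    IsLocalization.AtPrime.ringKrullDim_eq_height c.asIdeal, PrimeSpectrum.height_eq_orderHeight,
    (hclosed c inferInstance hηc).2 huniq] at hreg
  refine IsRegularLocalRing.of_spanFinrank_maximalIdeal_le _ ?_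
  rw [IsLocalRing.spanFinrank_maximalIdeal_eq_finrank_cotangentSpace,
    finrank_cotangentSpace_maximal (k := k), hrank, hreg,
    IsLocalization.AtPrime.ringKrullDim_eq_height m.asIdeal, PrimeSpectrum.height_eq_orderHeight]
  exact WithBot.coe_le_coe.2 (hclosed m inferInstance hηm).1

attribute [local instance] Algebra.TensorProduct.rightAlgebra in
theorem isSmoothAt_baseChange (k A K : Type u) [Field k] [CommRing A] [Algebra k A] [CommRing K] [Algebra k K]
    (P : Ideal (K ⊗[k] A)) [P.IsPrime] [(P.comap (algebraMap A (K ⊗[k] A))).IsPrime]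
    (h : Algebra.IsSmoothAt k (P.comap (algebraMap A (K ⊗[k] A)))) : Algebra.IsSmoothAt K P := by
  let B := K ⊗[k] A
  let M := (P.comap (algebraMap A B)).primeCompl
  let L := Localization.AtPrime (P.comap (algebraMap A B))
  haveI : Algebra.FormallySmooth k L := h
  let T := K ⊗[k] L
  letI : Algebra B T := (Algebra.TensorProduct.map (AlgHom.id K K) (IsScalarTower.toAlgHom k A L)).toRingHom.toAlgebra
  haveI : IsScalarTower K B T := IsScalarTower.of_algebraMap_eq fun x =>
    ((Algebra.TensorProduct.map (AlgHom.id K K) (IsScalarTower.toAlgHom k A L)).commutes x).symm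
  haveI hloc := IsLocalization.tensorProduct_tensorProduct_right k K M L (RingHom.ext fun a => by
    show (Algebra.TensorProduct.map (AlgHom.id K K) (IsScalarTower.toAlgHom k A L)) (1 ⊗ₜ a) = _
    simp)
  have hle : M.map (Algebra.TensorProduct.includeRight (R := k) (A := K)) ≤ P.primeCompl := by
    rintro _ ⟨a, ha, rfl⟩ hP
    exact ha hP
  letI := IsLocalization.localizationAlgebraOfSubmonoidLe T (Localization.AtPrime P)
    (M.map (Algebra.TensorProduct.includeRight (R := k) (A := K))) P.primeCompl hle
  haveI := IsLocalization.localization_isScalarTower_of_submonoid_le T (Localization.AtPrime P)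
    (M.map (Algebra.TensorProduct.includeRight (R := k) (A := K))) P.primeCompl hle
  haveI := IsLocalization.isLocalization_of_submonoid_le T (Localization.AtPrime P)
    (M.map (Algebra.TensorProduct.includeRight (R := k) (A := K))) P.primeCompl hle
  haveI : IsScalarTower K T (Localization.AtPrime P) := IsScalarTower.of_algebraMap_eq fun x =>
    ((IsScalarTower.algebraMap_apply K B (Localization.AtPrime P) x).trans
      (IsScalarTower.algebraMap_apply B T (Localization.AtPrime P) _)).trans
      (congrArg (algebraMap T (Localization.AtPrime P)) (IsScalarTower.algebraMap_apply K B T x).symm)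
  haveI : Algebra.FormallySmooth T (Localization.AtPrime P) :=
    Algebra.FormallySmooth.of_isLocalization (P.primeCompl.map (algebraMap B T))
  exact Algebra.FormallySmooth.comp K T (Localization.AtPrime P)

attribute [local instance] Algebra.TensorProduct.rightAlgebra in
theorem smooth_of_generic (k A : Type u) [Field k] [CommRing A] [Algebra k A] [Algebra.FiniteType k A]
    [Module.Projective A Ω[A⁄k]]
    (hgen : ∀ (η : Ideal A) [η.IsPrime], η ∈ minimalPrimes A → Algebra.IsSmoothAt k η) : Algebra.Smooth k A := by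
  let K := AlgebraicClosure k
  let B := K ⊗[k] A
  haveI : Algebra.FinitePresentation k A :=
    haveI := Algebra.FiniteType.isNoetherianRing k A
    Algebra.FinitePresentation.of_finiteType.1 inferInstance
  haveI : Module.Projective B Ω[B⁄K] :=
    Module.Projective.of_equiv ((KaehlerDifferential.tensorKaehlerEquiv k K A B))
  have hgenB : ∀ (η : Ideal B) [η.IsPrime], η ∈ minimalPrimes B → Algebra.IsSmoothAt K η := by
    intro η _ hη
    haveI : Module.Flat A B := Module.Flat.of_linearEquiv (Algebra.TensorProduct.commRight k A K).symm.toLinearEquiv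
    obtain ⟨P, hPη, hP, hPo⟩ : ∃ P : Ideal B, P ≤ η ∧ P.IsPrime ∧
        P.comap (algebraMap A B) ∈ minimalPrimes A := by
      obtain ⟨p₀, hp₀, hle⟩ := Ideal.exists_minimalPrimes_le (bot_le : ⊥ ≤ η.comap (algebraMap A B))
      haveI := hp₀.1.1
      obtain ⟨P, hPη, hP, hover⟩ := Ideal.exists_ideal_le_liesOver_of_le (p := p₀) (q := η.comap (algebraMap A B)) η hle
      exact ⟨P, hPη, hP, (hover.over ▸ hp₀ : P.under A ∈ minimalPrimes A)⟩
    obtain rfl : P = η := le_antisymm hPη (hη.2 ⟨hP, bot_le⟩ hPη)
    haveI : (P.comap (algebraMap A B)).IsPrime := Ideal.IsPrime.comap _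
    exact isSmoothAt_baseChange k A K P (hgen _ hPo)
  haveI : Algebra.Smooth K B := CotTLib.smooth_of_isSmoothAt_maximal fun m _ => by
    rw [isSmoothAt_iff_isRegularLocalRing]
    haveI : (⟨m, inferInstance⟩ : PrimeSpectrum B).asIdeal.IsMaximal := ‹_›
    exact isRegularLocalRing_of_generic (k := K) hgenB (⟨m, inferInstance⟩ : PrimeSpectrum B)
  exact Algebra.Smooth.of_smooth_tensorProduct_of_faithfullyFlat K

end Groth.Agent.SmoothReg

end
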